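import Cfsg.Agent.H116.RatB0.StExc
import Cfsg.Agent.H383.Cube.Crude
import Cfsg.Agent.H498.RP.ConK

/-!
# S4791 + S4927: indices of the proper parabolic subgroups of `E₆`, `E₇`, `E₈` (helper543)

* `idx_E8`, `idx_E7`, `idx_E6` : `p` divides the indices of all proper parabolic subgroups;
* `card_E8`, `card_E7`, `card_E6` : the order of the unipotent group;
* `evZ_*` : `p ∣ Φ_d(q)` if `q` has order `d` modulo `p`.
-/

set_option autoImplicit false
set_option linter.unusedSectionVars false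

namespace Cfsg.Agent.H543.XZ

open CoxeterSystem Cfsg.Agent.ChevalleyStructure.CoxeterGeom Cfsg.Agent.Tits.Roots Cfsg.Agent.Tits.Core
  Cfsg.Agent.Tits.RootComb Cfsg.Agent.Nodes.Reps Cfsg.Agent.Nodes.BNOf
  Cfsg.Agent.Nodes.StabComb Cfsg.Agent.Nodes.Bruhat Cfsg.Agent.Nodes.LeviDec Cfsg.Agent.H35.Poin
  Cfsg.Agent.H35.PoinNum Cfsg.Agent.H35.ExcIdx Cfsg.Agent.H134.StrP
  Cfsg.Agent.ChevalleyStructure.CoxeterGeomTypes Cfsg.Lie
open Cfsg.Agent.Nodes.RGDChev Cfsg.Agent.ChevalleyStructure.NPerm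
open Cfsg.Agent.H116.RatB0 Cfsg.Agent.H498.RP

universe u

section Mono

variable {I W Y : Type*} [Fintype I] [DecidableEq I] [Group W] [Group Y] {M : CoxeterMatrix I}
  {cs : CoxeterSystem M W} {A : I → I → ℤ} {h : IsCartan M A} {T : Subgroup Y} {X : (I → ℤ) → Subgroup Y}

theorem PJ_mono {J J' : Set I} (hJ : J ⊆ J') : PJ cs h T X J ≤ PJ cs h T X J' := by
  refine sup_le ((LJ_mono hJ).trans LJ_le_PJ) (RGD.Sup_le fun x hx => ?_)
  obtain ⟨hr, h0, k, hk, hxk⟩ := hx
  by_cases h1 : ∃ k, k ∉ J' ∧ 0 < x k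
  · exact (RGD.le_Sup (S := NotJ cs h J') ⟨hr, h0, h1⟩).trans VJ_le_PJ
  · push Not at h1
    refine (X_le_LJ (J := J') ⟨hr, fun k hk => ?_⟩).trans LJ_le_PJ
    exact le_antisymm (h1 k hk) (h0 k)

end Mono

section Gen

variable {D : ChevalleyDatum} {l : ℕ} {M : CoxeterMatrix (Fin l)} (hp : IsType D l M) (K : Type u) [Field K]
  [Fintype K] {r f : ℕ} (hr : r.Prime) (hf : f ≠ 0) (hK : Fintype.card K = r ^ f) [CharP K r]

include hr hf hK in
theorem idx_of_all {g : ℕ} (hg : g ∣ r ^ f - 1)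
    (hT : g * Nat.card (D.diagonalSubgroup K) = (r ^ f - 1) ^ D.rank) {dS : List ℕ} {N : ℕ}
    (hdS : ∀ d ∈ dS, 0 < d ∧ d < N) (hS : ∃ b, g * Nat.card (D.group K) = r ^ b * pr (r ^ f) dS)
    {p m : ℕ} [hp' : Fact p.Prime] (hpm : (p : ℤ) ∣ E (r ^ f) m) (hm : m < N)
    (hall : ∀ k : Fin l, ∃ (J : List (Fin l)) (dJ : List ℕ), (∀ j, j ∈ J ↔ j ≠ k) ∧
      ((∀ (_ : Finite M.Group), RGD M.toCoxeterSystem hp.isCartan r (TT D K)
        (fun i => (⟨nn hp K i, nn_mem_group hp i⟩ : ↥(D.group K))) (XX D l K) →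
        (∀ i, Nat.card (XX D l K (sr i)) = r ^ f) →
        ParOrd M.toCoxeterSystem hp.isCartan (TT D K) (XX D l K) (r ^ f) l J dJ)) ∧
      (∀ d ∈ dJ, 0 < d ∧ d < N) ∧ (∀ m < N, cnt dJ m ≤ cnt dS m) ∧ cnt dJ m < cnt dS m)
    (J : Finset (Fin l)) (hJ : J ≠ Finset.univ) : p ∣ (PK hp K J).index := by
  have : Fact r.Prime := ⟨hr⟩
  have hfin := finite_W hp M.toCoxeterSystem
  have hR := rgd (K := K) hp M.toCoxeterSystem r
  have h2 := two_le hr hf
  have hc : ∀ i, Nat.card (XX D l K (sr i)) = r ^ f := fun i => by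
    rw [card_XX hp K M.toCoxeterSystem (isRoot_sr _ _ i), Nat.card_eq_fintype_card, hK]
  obtain ⟨k, hk⟩ : ∃ k, k ∉ J := by
    by_contra h
    push Not at h
    exact hJ (Finset.eq_univ_iff_forall.2 h)
  obtain ⟨J', dJ, e1, e2, e3, e4, e5⟩ := hall k
  have h3 : p ∣ (PJ M.toCoxeterSystem hp.isCartan (TT D K) (XX D l K) {j | j ∈ J'}).index :=
    dvd_idx h2 hdS e3 (idx_of_parOrd hp K hr hf hK _ hg hT (fun d hd => (hdS d hd).1) hS (e2 hfin hR hc)) e4 hpm hm e5
  refine h3.trans (Subgroup.index_dvd_of_le ?_)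
  refine PJ_mono ?_
  intro j hj
  exact (e1 j).2 fun h => hk (h ▸ hj)

include hr hf hK in
/-- the order of the unipotent group -/
theorem card_of_all {g N : ℕ} (hg : g ∣ r ^ f - 1) {dS : List ℕ} (hdS : ∀ d ∈ dS, 0 < d)
    (hS : g * Nat.card (D.group K) = r ^ (f * N) * pr (r ^ f) dS) :
    Nat.card (RGD.Sup (XX D l K) (RGD.Pos M.toCoxeterSystem hp.isCartan)) = Fintype.card K ^ N := by
  have : Fact r.Prime := ⟨hr⟩
  have hfin := finite_W hp M.toCoxeterSystem
  have hR := rgd (K := K) hp M.toCoxeterSystem r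
  have h2 := two_le hr hf
  have h3 := not_dvd_pr hr hf dS hdS
  have h4 := not_dvd_of_dvd hr hf hg
  have h5 : g ∣ pr (r ^ f) dS := by
    have h6 : g ∣ r ^ (f * N) * pr (r ^ f) dS := ⟨_, hS.symm⟩
    exact (Nat.Coprime.dvd_of_dvd_mul_left (Nat.Coprime.pow_right _ ((Nat.Prime.coprime_iff_not_dvd hr).2 h4).symm) h6)
  obtain ⟨m, hm⟩ := h5
  have hg0 : 0 < g := Nat.pos_of_ne_zero fun h0 => h4 (h0 ▸ dvd_zero _)
  refine H383.Cube.card_U_eq hR (GG_eq_top hp K _) (u := Fintype.card K ^ N) (m := m) (k := f * N) ?_ ?_ ?_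
  · rw [hK, ← pow_mul]
  · refine (Nat.Prime.coprime_iff_not_dvd hr).2 fun h6 => h3 ?_
    rw [hm]
    exact h6.mul_left g
  · refine Nat.eq_of_mul_eq_mul_left hg0 ?_
    rw [hS, hm, hK, ← pow_mul]
    ring

end Gen

variable {K : Type u} [Field K] [Fintype K] {p : ℕ} [Fact p.Prime] (hpK : ¬ p ∣ Fintype.card K)

include hpK in
/-- `E₈`: the indices of the proper parabolic subgroups -/
theorem idx_E8 (hm : orderOf ((Fintype.card K : ℕ) : ZMod p) ∈ [2, 3, 4, 5, 6, 8, 10, 12, 15, 20, 24, 30])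
    (J : Finset (Fin 8)) (hJ : J ≠ Finset.univ) : p ∣ (PK hpE8 K J).index := by
  have hd := dvd_E (q := Fintype.card K) (p := p) hpK
  generalize orderOf ((Fintype.card K : ℕ) : ZMod p) = m at hm hd
  obtain ⟨r, f, _, hr, hf, hK⟩ := exists_pow K
  rw [hK] at hd
  have h2 := two_le hr hf
  refine idx_of_all hpE8 K hr hf hK (g := 1) (one_dvd _)
    (by rw [← hK]; exact Cfsg.Agent.S1035.result rfl (chevE8, 1) (by simp))
    (dS := [2, 8, 12, 14, 18, 20, 24, 30]) (N := 31) (by decide) ⟨f * 120, ?_⟩ hd ?_ ?_ J hJ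
  · have h3 := Cfsg.Agent.S1065.result hK
    rw [pow_mul]
    simp only [pr_cons, pr_nil]
    rw [one_mul, h3]
    ring
  · clear hd; revert m; decide
  · intro k
    fin_cases k
    · exact ⟨_, _, by decide, fun _ R hs => oE8_1234567 R h2 hs, by decide, by decide, by clear hd; revert m; decide⟩
    · exact ⟨_, _, by decide, fun _ R hs => oE8_0234567 R h2 hs, by decide, by decide, by clear hd; revert m; decide⟩
    · exact ⟨_, _, by decide, fun _ R hs => oE8_0134567 R h2 hs, by decide, by decide, by clear hd; revert m; decide⟩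
    · exact ⟨_, _, by decide, fun _ R hs => oE8_0124567 R h2 hs, by decide, by decide, by clear hd; revert m; decide⟩
    · exact ⟨_, _, by decide, fun _ R hs => oE8_0123567 R h2 hs, by decide, by decide, by clear hd; revert m; decide⟩
    · exact ⟨_, _, by decide, fun _ R hs => oE8_0123467 R h2 hs, by decide, by decide, by clear hd; revert m; decide⟩
    · exact ⟨_, _, by decide, fun _ R hs => oE8_0123457 R h2 hs, by decide, by decide, by clear hd; revert m; decide⟩
    · exact ⟨_, _, by decide, fun _ R hs => oE8_0123456 R h2 hs, by decide, by decide, by clear hd; revert m; decide⟩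

include hpK in
/-- `E₇`: the indices of the proper parabolic subgroups -/
theorem idx_E7 (hm : orderOf ((Fintype.card K : ℕ) : ZMod p) ∈ [2, 6, 14, 18])
    (J : Finset (Fin 7)) (hJ : J ≠ Finset.univ) : p ∣ (PK hpE7 K J).index := by
  have hd := dvd_E (q := Fintype.card K) (p := p) hpK
  generalize orderOf ((Fintype.card K : ℕ) : ZMod p) = m at hm hd
  obtain ⟨r, f, _, hr, hf, hK⟩ := exists_pow K
  rw [hK] at hd
  have h2 := two_le hr hf
  refine idx_of_all hpE7 K hr hf hK (g := Nat.gcd 2 (r ^ f - 1)) (Nat.gcd_dvd_right _ _)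
    (by rw [← hK]; exact Cfsg.Agent.S1035.result rfl (chevE7, Nat.gcd 2 (Fintype.card K - 1)) (by simp))
    (dS := [2, 6, 8, 10, 12, 14, 18]) (N := 31) (by decide) ⟨f * 63, ?_⟩ hd ?_ ?_ J hJ
  · have h3 := Cfsg.Agent.S1064.result hK
    rw [pow_mul]
    simp only [pr_cons, pr_nil]
    rw [h3]
    ring
  · clear hd; revert m; decide
  · intro k
    fin_cases k
    · exact ⟨_, _, by decide, fun _ R hs => oE7_123456 R h2 hs, by decide, by decide, by clear hd; revert m; decide⟩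
    · exact ⟨_, _, by decide, fun _ R hs => oE7_023456 R h2 hs, by decide, by decide, by clear hd; revert m; decide⟩
    · exact ⟨_, _, by decide, fun _ R hs => oE7_013456 R h2 hs, by decide, by decide, by clear hd; revert m; decide⟩
    · exact ⟨_, _, by decide, fun _ R hs => oE7_012456 R h2 hs, by decide, by decide, by clear hd; revert m; decide⟩
    · exact ⟨_, _, by decide, fun _ R hs => oE7_012356 R h2 hs, by decide, by decide, by clear hd; revert m; decide⟩
    · exact ⟨_, _, by decide, fun _ R hs => oE7_012346 R h2 hs, by decide, by decide, by clear hd; revert m; decide⟩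
    · exact ⟨_, _, by decide, fun _ R hs => oE7_012345 R h2 hs, by decide, by decide, by clear hd; revert m; decide⟩

include hpK in
/-- `E₆`: the indices of the proper parabolic subgroups -/
theorem idx_E6 (hm : orderOf ((Fintype.card K : ℕ) : ZMod p) ∈ [3, 6, 9, 12])
    (J : Finset (Fin 6)) (hJ : J ≠ Finset.univ) : p ∣ (PK hpE6 K J).index := by
  have hd := dvd_E (q := Fintype.card K) (p := p) hpK
  generalize orderOf ((Fintype.card K : ℕ) : ZMod p) = m at hm hd
  obtain ⟨r, f, _, hr, hf, hK⟩ := exists_pow K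
  rw [hK] at hd
  have h2 := two_le hr hf
  refine idx_of_all hpE6 K hr hf hK (g := Nat.gcd 3 (r ^ f - 1)) (Nat.gcd_dvd_right _ _)
    (by rw [← hK]; exact Cfsg.Agent.S1035.result rfl (chevE6, Nat.gcd 3 (Fintype.card K - 1)) (by simp))
    (dS := [2, 5, 6, 8, 9, 12]) (N := 31) (by decide) ⟨f * 36, ?_⟩ hd ?_ ?_ J hJ
  · have h3 := Cfsg.Agent.S1063.result hK
    rw [pow_mul]
    simp only [pr_cons, pr_nil]
    rw [h3]
    ring
  · clear hd; revert m; decide
  · intro k
    fin_cases k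
    · exact ⟨_, _, by decide, fun _ R hs => oE6_12345 R h2 hs, by decide, by decide, by clear hd; revert m; decide⟩
    · exact ⟨_, _, by decide, fun _ R hs => oE6_02345 R h2 hs, by decide, by decide, by clear hd; revert m; decide⟩
    · exact ⟨_, _, by decide, fun _ R hs => oE6_01345 R h2 hs, by decide, by decide, by clear hd; revert m; decide⟩
    · exact ⟨_, _, by decide, fun _ R hs => oE6_01245 R h2 hs, by decide, by decide, by clear hd; revert m; decide⟩
    · exact ⟨_, _, by decide, fun _ R hs => oE6_01235 R h2 hs, by decide, by decide, by clear hd; revert m; decide⟩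
    · exact ⟨_, _, by decide, fun _ R hs => oE6_01234 R h2 hs, by decide, by decide, by clear hd; revert m; decide⟩

variable (K) in
theorem card_E8 : Nat.card (RGD.Sup (XX chevE8 8 K) (RGD.Pos CoxeterMatrix.E₈.toCoxeterSystem hpE8.isCartan)) =
    Fintype.card K ^ 120 := by
  obtain ⟨r, f, _, hr, hf, hK⟩ := exists_pow K
  refine card_of_all hpE8 K hr hf hK (g := 1) (one_dvd _) (dS := [2, 8, 12, 14, 18, 20, 24, 30]) (by decide) ?_
  have h3 := Cfsg.Agent.S1065.result hK
  rw [pow_mul]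
  simp only [pr_cons, pr_nil]
  rw [one_mul, h3]
  ring

variable (K) in
theorem card_E7 : Nat.card (RGD.Sup (XX chevE7 7 K) (RGD.Pos CoxeterMatrix.E₇.toCoxeterSystem hpE7.isCartan)) =
    Fintype.card K ^ 63 := by
  obtain ⟨r, f, _, hr, hf, hK⟩ := exists_pow K
  refine card_of_all hpE7 K hr hf hK (g := Nat.gcd 2 (r ^ f - 1)) (Nat.gcd_dvd_right _ _)
    (dS := [2, 6, 8, 10, 12, 14, 18]) (by decide) ?_
  have h3 := Cfsg.Agent.S1064.result hK
  rw [pow_mul]
  simp only [pr_cons, pr_nil]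
  rw [h3]
  ring

variable (K) in
theorem card_E6 : Nat.card (RGD.Sup (XX chevE6 6 K) (RGD.Pos CoxeterMatrix.E₆.toCoxeterSystem hpE6.isCartan)) =
    Fintype.card K ^ 36 := by
  obtain ⟨r, f, _, hr, hf, hK⟩ := exists_pow K
  refine card_of_all hpE6 K hr hf hK (g := Nat.gcd 3 (r ^ f - 1)) (Nat.gcd_dvd_right _ _)
    (dS := [2, 5, 6, 8, 9, 12]) (by decide) ?_
  have h3 := Cfsg.Agent.S1063.result hK
  rw [pow_mul]
  simp only [pr_cons, pr_nil]
  rw [h3]
  ring

/-! ### the orders -/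

section Ev

variable {q : ℕ} {p : ℕ} [Fact p.Prime]

theorem ev_aux {d : ℕ} (hd : orderOf ((q : ℕ) : ZMod p) = d) (hd0 : 0 < d) {a b : ZMod p} {F : List ℤ}
    (he : (q : ZMod p) ^ d - 1 = a * b * ((evZ q F : ℤ) : ZMod p))
    {i j : ℕ} (hi : a = 0 → (q : ZMod p) ^ i = 1) (hj : b = 0 → (q : ZMod p) ^ j = 1) (hi0 : i ≠ 0) (hj0 : j ≠ 0)
    (hid : i < d) (hjd : j < d) : (p : ℤ) ∣ evZ q F := by
  rw [← ZMod.intCast_zmod_eq_zero_iff_dvd]
  have h1 : (q : ZMod p) ^ d = 1 := by rw [← hd]; exact pow_orderOf_eq_one _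
  rw [h1, sub_self] at he
  have h2 : ∀ k, k ≠ 0 → k < d → (q : ZMod p) ^ k ≠ 1 := fun k hk hkd => by
    rw [← hd] at hkd
    exact pow_ne_one_of_lt_orderOf hk hkd
  rcases mul_eq_zero.1 he.symm with h3 | h3
  · rcases mul_eq_zero.1 h3 with h4 | h4
    · exact absurd (hi h4) (h2 i hi0 hid)
    · exact absurd (hj h4) (h2 j hj0 hjd)
  · exact h3

theorem ev3 (hd : orderOf ((q : ℕ) : ZMod p) = 3) : (p : ℤ) ∣ evZ q (1 :: [1, 1]) := by
  refine ev_aux hd (by norm_num) (a := (q : ZMod p) - 1) (b := 1) (i := 1) (j := 1) ?_ (fun h => ?_)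
    (fun h => absurd h one_ne_zero) (by norm_num) (by norm_num) (by norm_num) (by norm_num)
  · simp only [evZ]; push_cast; ring
  · linear_combination h

theorem ev4 (hd : orderOf ((q : ℕ) : ZMod p) = 4) : (p : ℤ) ∣ evZ q (1 :: [0, 1]) := by
  refine ev_aux hd (by norm_num) (a := (q : ZMod p) ^ 2 - 1) (b := 1) (i := 2) (j := 1) ?_ (fun h => ?_)
    (fun h => absurd h one_ne_zero) (by norm_num) (by norm_num) (by norm_num) (by norm_num)
  · simp only [evZ]; push_cast; ring
  · linear_combination h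

theorem ev5 (hd : orderOf ((q : ℕ) : ZMod p) = 5) : (p : ℤ) ∣ evZ q (1 :: [1, 1, 1, 1]) := by
  refine ev_aux hd (by norm_num) (a := (q : ZMod p) - 1) (b := 1) (i := 1) (j := 1) ?_ (fun h => ?_)
    (fun h => absurd h one_ne_zero) (by norm_num) (by norm_num) (by norm_num) (by norm_num)
  · simp only [evZ]; push_cast; ring
  · linear_combination h

theorem ev6 (hd : orderOf ((q : ℕ) : ZMod p) = 6) : (p : ℤ) ∣ evZ q (1 :: [-1, 1]) := by
  refine ev_aux hd (by norm_num) (a := (q : ZMod p) ^ 3 - 1) (b := (q : ZMod p) + 1) (i := 3) (j := 2) ?_ (fun h => ?_)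
    (fun h => ?_) (by norm_num) (by norm_num) (by norm_num) (by norm_num)
  · simp only [evZ]; push_cast; ring
  · linear_combination h
  · linear_combination ((q : ZMod p) - 1) * h

theorem ev8 (hd : orderOf ((q : ℕ) : ZMod p) = 8) : (p : ℤ) ∣ evZ q (1 :: [0, 0, 0, 1]) := by
  refine ev_aux hd (by norm_num) (a := (q : ZMod p) ^ 4 - 1) (b := 1) (i := 4) (j := 1) ?_ (fun h => ?_)
    (fun h => absurd h one_ne_zero) (by norm_num) (by norm_num) (by norm_num) (by norm_num)
  · simp only [evZ]; push_cast; ring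
  · linear_combination h

theorem ev10 (hd : orderOf ((q : ℕ) : ZMod p) = 10) : (p : ℤ) ∣ evZ q (1 :: [-1, 1, -1, 1]) := by
  refine ev_aux hd (by norm_num) (a := (q : ZMod p) ^ 5 - 1) (b := (q : ZMod p) + 1) (i := 5) (j := 2) ?_ (fun h => ?_)
    (fun h => ?_) (by norm_num) (by norm_num) (by norm_num) (by norm_num)
  · simp only [evZ]; push_cast; ring
  · linear_combination h
  · linear_combination ((q : ZMod p) - 1) * h

theorem ev12 (hd : orderOf ((q : ℕ) : ZMod p) = 12) : (p : ℤ) ∣ evZ q (1 :: [0, -1, 0, 1]) := by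
  refine ev_aux hd (by norm_num) (a := (q : ZMod p) ^ 6 - 1) (b := (q : ZMod p) ^ 2 + 1) (i := 6) (j := 4) ?_
    (fun h => ?_) (fun h => ?_) (by norm_num) (by norm_num) (by norm_num) (by norm_num)
  · simp only [evZ]; push_cast; ring
  · linear_combination h
  · linear_combination ((q : ZMod p) ^ 2 - 1) * h

end Ev

end Cfsg.Agent.H543.XZ
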