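import Cfsg.Agent.H694.XZ.Sq

/-!
# S4791 + S4927: `E₈(q)`, `11 ∣ Φ₅(q)`: seven members of `X₀` from six (helper543)

* `succ_le` : `n` members of `X₀` with degrees `d i` modulo `p`, `∑ d i ² ≠ 0` modulo `p`: `n + 1 ≤ x0`.
* `seven_of_six` : the case `1, -1, -3, 4, 1, -1` modulo 11 (`1, 84, 567, 1344, St, D 84`).
* `seven_of_five` : `1, -1, -3, 4, 1` modulo 11: a sixth member has degree `± 4`, unless there are seven.
-/

set_option autoImplicit false

namespace Cfsg.Agent.H543.XZ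

open Cfsg Cfsg.Agent.H674.XZ Cfsg.Agent.H694.XZ

universe u

variable {p : ℕ} {M : Ideal AlgInt} {G : Type u} [Group G] [Finite G]

/-- `n` members of `X₀` with degrees `d i` modulo `p` whose squares have a nonzero sum: there is one more. -/
theorem succ_le [hp : Fact p.Prime] (hM : IsPModular p M) (hd : p ∣ Nat.card G) {n : ℕ} (χ : Fin n → IrrCharacter G)
    (hinj : Function.Injective χ) (hmem : ∀ i, Mem0 p M (χ i)) (d : Fin n → ZMod p)
    (hdeg : ∀ i, ((charDegree (χ i : G → ℂ) : ℕ) : ZMod p) = d i) (hs : ∑ i, d i * d i ≠ 0) : n + 1 ≤ x0 p M G := by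
  have h := lt_x0 hM hd χ hinj hmem (fun h1 => hs ?_)
  · rwa [Fintype.card_fin] at h
  · have h2 := (ZMod.intCast_zmod_eq_zero_iff_dvd _ p).2 h1
    rw [Int.cast_sum] at h2
    rw [← h2]
    refine Finset.sum_congr rfl fun i _ => ?_
    rw [Int.cast_mul, Int.cast_natCast, hdeg i]

/-- the squares of `1, -1, -3, 4, 1, -1` modulo 11 -/
theorem sq6 : ∑ i : Fin 6, (![1, -1, -3, 4, 1, -1] : Fin 6 → ZMod 11) i * (![1, -1, -3, 4, 1, -1] : Fin 6 → ZMod 11) i
    ≠ 0 := by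
  decide

/-- the squares of `a, 1, -1, -3, 4, 1` modulo 11 -/
theorem sq_cons : ∀ a : ZMod 11, ¬(a = 4 ∨ a = -4) →
    ∑ i : Fin 6, (Fin.cons a ![1, -1, -3, 4, 1] : Fin 6 → ZMod 11) i *
      (Fin.cons a ![1, -1, -3, 4, 1] : Fin 6 → ZMod 11) i ≠ 0 := by
  decide

/-- six members of degrees `1, -1, -3, 4, 1, -1` modulo 11 -/
theorem seven_of_six [hp : Fact p.Prime] (h11 : p = 11) (hM : IsPModular p M) (hd : p ∣ Nat.card G)
    (χ : Fin 6 → IrrCharacter G) (hinj : Function.Injective χ) (hmem : ∀ i, Mem0 p M (χ i))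
    (hdeg : ∀ i, ((charDegree (χ i : G → ℂ) : ℕ) : ZMod p) = (![1, -1, -3, 4, 1, -1] : Fin 6 → ZMod p) i) :
    7 ≤ x0 p M G := by
  subst h11
  exact succ_le hM hd χ hinj hmem _ hdeg sq6

/-- five members of degrees `1, -1, -3, 4, 1` modulo 11: either seven members, or every further member has degree `± 4`. -/
theorem seven_of_five [hp : Fact p.Prime] (h11 : p = 11) (hM : IsPModular p M) (hd : p ∣ Nat.card G)
    (χ : Fin 5 → IrrCharacter G) (hinj : Function.Injective χ) (hmem : ∀ i, Mem0 p M (χ i))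
    (hdeg : ∀ i, ((charDegree (χ i : G → ℂ) : ℕ) : ZMod p) = (![1, -1, -3, 4, 1] : Fin 5 → ZMod p) i)
    {ψ : IrrCharacter G} (hψ : Mem0 p M ψ) (hn : ∀ i, χ i ≠ ψ) :
    7 ≤ x0 p M G ∨ ((charDegree (ψ : G → ℂ) : ℕ) : ZMod p) = 4 ∨ ((charDegree (ψ : G → ℂ) : ℕ) : ZMod p) = -4 := by
  subst h11
  by_cases h : ((charDegree (ψ : G → ℂ) : ℕ) : ZMod 11) = 4 ∨ ((charDegree (ψ : G → ℂ) : ℕ) : ZMod 11) = -4
  · exact Or.inr h
  · left
    refine succ_le (n := 6) hM hd (Fin.cons ψ χ : Fin 6 → IrrCharacter G) ?_ ?_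
      (Fin.cons ((charDegree (ψ : G → ℂ) : ℕ) : ZMod 11) ![1, -1, -3, 4, 1]) ?_ ?_
    · rw [Fin.cons_injective_iff]
      refine ⟨?_, hinj⟩
      rintro ⟨i, hi⟩
      exact hn i hi
    · intro i
      refine Fin.cases ?_ (fun j => ?_) i
      · exact hψ
      · exact hmem j
    · intro i
      refine Fin.cases ?_ (fun j => ?_) i
      · rfl
      · exact hdeg j
    · exact sq_cons _ h

end Cfsg.Agent.H543.XZ
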