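import Cfsg.Agent.H543.XZ.MonCrit
import Cfsg.Agent.H816.IMM

/-!
# S4791 + S4927: the Monster, `p = 13` and `p = 11`: seven characters of degree prime to `p` (helper543)
-/

set_option autoImplicit false

open Cfsg Subgroup

namespace Cfsg.Agent.H543.XZ.Mon

universe u

variable {S : Type u} [Group S] [Finite S]

omit [Finite S] in
theorem simple_m (h : Spor.IsoM S) : IsSimpleGroup S := by
  obtain ⟨e⟩ := Cfsg.Agent.H816.IMM.exists_equiv h
  have hs : IsSimpleGroup ↥Cfsg.Agent.MonsterX.InstData.M.G := Cfsg.Agent.MonsterP.EquivOf.isM_model.1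
  have : Nontrivial S := e.toEquiv.nontrivial
  exact IsSimpleGroup.isSimpleGroup_of_surjective e.symm.toMonoidHom e.symm.surjective

/-- **The Monster, `p = 13`**: seven irreducible characters of degree prime to 13. -/
theorem thirteen (h : Spor.IsoM S) (hc : ∀ x : S, orderOf x = 41 → Nat.card (centralizer ({x} : Set S)) = 41) :
    7 ≤ Nat.card {χ : IrrCharacter S // ¬ 13 ∣ charDegree (χ : S → ℂ)} := by
  have hs := simple_m h
  have hN : Nat.card S = NM := Cfsg.Agent.H816.IMM.card_eq h
  have : Fact (Nat.Prime 41) := ⟨by norm_num⟩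
  obtain ⟨x, hx⟩ := exists_prime_orderOf_dvd_card' (G := S) 41 (by rw [hN]; norm_num)
  have hna : ¬ IsMulCommutative S := by
    intro hcm
    have h1 : centralizer ({x} : Set S) = ⊤ := by
      rw [eq_top_iff]
      intro y _
      rw [mem_centralizer_singleton_iff]
      exact hcm.is_comm.comm _ _
    have h2 := hc x hx
    rw [h1, Subgroup.card_top, hN] at h2
    norm_num at h2
  exact seven_thirteen hna hN hx (hc x hx) (Cfsg.Agent.H816.IMM.exists_chi_1 h)
    (Cfsg.Agent.H816.IMM.exists_chi_196883 h) (Cfsg.Agent.H816.IMM.exists_chi_18538750076 h)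
    (Cfsg.Agent.H816.IMM.exists_chi_1109944460516150 h)

/-- **The Monster, `p = 11`**: seven irreducible characters of degree prime to 11. -/
theorem eleven (h : Spor.IsoM S) : 7 ≤ Nat.card {χ : IrrCharacter S // ¬ 11 ∣ charDegree (χ : S → ℂ)} := by
  refine card_le_of_degrees (G := S) [1, 196883, 842609326, 36173193327999, 1109944460516150, 251098487132187500,
    47377503606648784400] (by decide) 11 (by decide) ?_
  intro n hn
  simp only [List.mem_cons, List.not_mem_nil, or_false] at hn
  rcases hn with rfl | rfl | rfl | rfl | rfl | rfl | rfl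
  · simpa using Cfsg.Agent.H816.IMM.exists_chi_1 h
  · simpa using Cfsg.Agent.H816.IMM.exists_chi_196883 h
  · simpa using Cfsg.Agent.H816.IMM.exists_chi_842609326 h
  · simpa using Cfsg.Agent.H816.IMM.exists_chi_36173193327999 h
  · simpa using Cfsg.Agent.H816.IMM.exists_chi_1109944460516150 h
  · simpa using Cfsg.Agent.H816.IMM.exists_chi_251098487132187500 h
  · simpa using Cfsg.Agent.H816.IMM.exists_chi_47377503606648784400 h

end Cfsg.Agent.H543.XZ.Mon
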