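import Cfsg.Agent.H653.Sieve.Col

/-!
# S4791 + S4927: the Monster, `p = 13` and `p = 11`, counting (helper543)

* `seven_thirteen` : a simple group of the order of the Monster with an element `x` of order 41, `|C(x)| = 41`, and
  irreducible characters of degrees `1, 196883, 18538750076, 1109944460516150` (`1, -2, 2, -1` modulo 13) has at least
  seven irreducible characters of degree prime to 13: the columns of `1` and `x` are orthogonal modulo 13.
* `card_le_of_degrees` : distinct degrees give distinct characters.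
-/

set_option autoImplicit false

open Cfsg Subgroup

namespace Cfsg.Agent.H543.XZ

open Cfsg.Agent.Characters.Core Cfsg.Agent.H653.Sieve

universe u

variable {G : Type u} [Group G] [Finite G]

/-- The arithmetic modulo 13. -/
theorem arith13 : ∀ r s w v : ZMod 13, (w = 0 ∨ w = 1 ∨ w = -1) → (v = 0 ∨ v = 1 ∨ v = -1) →
    10 + r * r + s * s = 0 → -1 + r * w + s * v = 0 → r = 0 ∨ s = 0 := by
  decide

theorem arith13' : ∀ r w : ZMod 13, (w = 0 ∨ w = 1 ∨ w = -1) → 10 + r * r = 0 → -1 + r * w = 0 → r = 0 := by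
  decide

/-- The order of the Monster. -/
abbrev NM : ℕ := 808017424794512875886459904961710757005754368000000000

theorem num41 : numOK NM 41 1 40 1 [(0, .ofNat 0), (1, .ofNat 1), (40, .negSucc 0)] 0 false = true := by
  decide +kernel

/-- The four known characters: degree and value at the elements of order 41. -/
theorem seven_thirteen [IsSimpleGroup G] (hG : ¬ IsMulCommutative G) (hN : Nat.card G = NM) {x : G}
    (hx : orderOf x = 41) (hc : Nat.card (centralizer ({x} : Set G)) = 41)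
    (h1 : ∃ χ : G → ℂ, IsIrrCharacter G χ ∧ χ 1 = 1) (h2 : ∃ χ : G → ℂ, IsIrrCharacter G χ ∧ χ 1 = 196883)
    (h3 : ∃ χ : G → ℂ, IsIrrCharacter G χ ∧ χ 1 = 18538750076)
    (h4 : ∃ χ : G → ℂ, IsIrrCharacter G χ ∧ χ 1 = 1109944460516150) :
    7 ≤ Nat.card {χ : IrrCharacter G // ¬ 13 ∣ charDegree (χ : G → ℂ)} := by
  classical
  have := finite_irr (G := G)
  have := Fintype.ofFinite (IrrCharacter G)
  have : Fact (Nat.Prime 41) := ⟨by norm_num⟩
  obtain ⟨P, W, hP, he, hcol, hok⟩ := exists_col hG hN hx (k := 1) (by rw [hc]) 40 1 _ 0 false num41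
  have hmem := hok.mem
  have hdeg := hok.deg
  -- the characters
  have key : ∀ {n : ℕ}, (∃ χ : G → ℂ, IsIrrCharacter G χ ∧ χ 1 = (n : ℂ)) → ∃ χ : IrrCharacter G, deg χ = n := by
    rintro n ⟨χ, h, h'⟩
    refine ⟨⟨χ, h⟩, ?_⟩
    have e := Blocks.Basic.irr_one_eq_charDegree h
    rw [h'] at e
    exact_mod_cast e.symm
  obtain ⟨c1, d1⟩ := key (n := 1) (by simpa using h1)
  obtain ⟨c2, d2⟩ := key (n := 196883) (by simpa using h2)
  obtain ⟨c3, d3⟩ := key (n := 18538750076) (by simpa using h3)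
  obtain ⟨c4, d4⟩ := key (n := 1109944460516150) (by simpa using h4)
  have wval : ∀ χ : IrrCharacter G, (deg χ % 41 = 0 ∧ W χ = 0) ∨ (deg χ % 41 = 1 ∧ W χ = 1) ∨
      (deg χ % 41 = 40 ∧ W χ = -1) := by
    intro χ
    have h := hmem χ
    simp only [List.mem_cons, Prod.mk.injEq, List.not_mem_nil, or_false] at h
    exact h
  have w1 : W c1 = 1 := by
    rcases wval c1 with ⟨h, h'⟩ | ⟨h, h'⟩ | ⟨h, h'⟩ <;> rw [d1] at h <;> first | exact h' | (norm_num at h)
  have w2 : W c2 = 1 := by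
    rcases wval c2 with ⟨h, h'⟩ | ⟨h, h'⟩ | ⟨h, h'⟩ <;> rw [d2] at h <;> first | exact h' | (norm_num at h)
  have w3 : W c3 = 0 := by
    rcases wval c3 with ⟨h, h'⟩ | ⟨h, h'⟩ | ⟨h, h'⟩ <;> rw [d3] at h <;> first | exact h' | (norm_num at h)
  have w4 : W c4 = 0 := by
    rcases wval c4 with ⟨h, h'⟩ | ⟨h, h'⟩ | ⟨h, h'⟩ <;> rw [d4] at h <;> first | exact h' | (norm_num at h)
  -- the set
  set T : Finset (IrrCharacter G) := Finset.univ.filter fun χ => ¬ 13 ∣ deg χ with hT
  have hcard : Nat.card {χ : IrrCharacter G // ¬ 13 ∣ charDegree (χ : G → ℂ)} = T.card := by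
    rw [Nat.card_eq_fintype_card, Fintype.card_subtype, hT]
    rfl
  rw [hcard]
  by_contra hlt
  have hlt : T.card ≤ 6 := by omega
  set K : Finset (IrrCharacter G) := {c1, c2, c3, c4} with hK
  have n12 : c1 ≠ c2 := fun h => by rw [h, d2] at d1; norm_num at d1
  have n13 : c1 ≠ c3 := fun h => by rw [h, d3] at d1; norm_num at d1
  have n14 : c1 ≠ c4 := fun h => by rw [h, d4] at d1; norm_num at d1
  have n23 : c2 ≠ c3 := fun h => by rw [h, d3] at d2; norm_num at d2
  have n24 : c2 ≠ c4 := fun h => by rw [h, d4] at d2; norm_num at d2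
  have n34 : c3 ≠ c4 := fun h => by rw [h, d4] at d3; norm_num at d3
  have hKT : K ⊆ T := by
    intro χ hχ
    rw [hT, Finset.mem_filter]
    refine ⟨Finset.mem_univ _, ?_⟩
    rw [hK] at hχ
    simp only [Finset.mem_insert, Finset.mem_singleton] at hχ
    rcases hχ with rfl | rfl | rfl | rfl
    · rw [d1]; norm_num
    · rw [d2]; norm_num
    · rw [d3]; norm_num
    · rw [d4]; norm_num
  have hKc : K.card = 4 := by
    rw [hK, Finset.card_insert_of_notMem, Finset.card_insert_of_notMem, Finset.card_insert_of_notMem,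
      Finset.card_singleton]
    · simpa using n34
    · simp only [Finset.mem_insert, Finset.mem_singleton, not_or]; exact ⟨n23, n24⟩
    · simp only [Finset.mem_insert, Finset.mem_singleton, not_or]; exact ⟨n12, n13, n14⟩
  have hY : (T \ K).card ≤ 2 := by
    rw [Finset.card_sdiff_of_subset hKT, hKc]
    omega
  -- the two congruences
  have hz : ∀ χ : IrrCharacter G, χ ∉ T → ((deg χ : ℕ) : ZMod 13) = 0 := by
    intro χ hχ
    rw [hT, Finset.mem_filter, not_and, not_not] at hχ
    exact (ZMod.natCast_eq_zero_iff _ _).2 (hχ (Finset.mem_univ _))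
  have split : ∀ f : IrrCharacter G → ZMod 13, (∀ χ, χ ∉ T → f χ = 0) →
      ∑ χ, f χ = f c1 + f c2 + f c3 + f c4 + ∑ χ ∈ T \ K, f χ := by
    intro f hf
    have e1 : ∑ χ, f χ = ∑ χ ∈ T, f χ := by
      symm
      exact Finset.sum_subset (Finset.subset_univ _) fun χ _ h => hf χ h
    rw [e1, ← Finset.sum_sdiff hKT, add_comm]
    congr 1
    rw [hK, Finset.sum_insert, Finset.sum_insert, Finset.sum_insert, Finset.sum_singleton]
    · ring
    · simpa using n34
    · simp only [Finset.mem_insert, Finset.mem_singleton, not_or]; exact ⟨n23, n24⟩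
    · simp only [Finset.mem_insert, Finset.mem_singleton, not_or]; exact ⟨n12, n13, n14⟩
  have s1 : (10 : ZMod 13) + ∑ χ ∈ T \ K, ((deg χ : ℕ) : ZMod 13) * (deg χ : ℕ) = 0 := by
    have h := SmallSimple.DegreeData.sum_sq (G := G)
    have h' : ((∑ χ : IrrCharacter G, deg χ ^ 2 : ℕ) : ZMod 13) = 0 := by
      have e : (∑ χ : IrrCharacter G, deg χ ^ 2) = Nat.card G := by
        rw [← h]
        rfl
      rw [e, hN]
      decide
    rw [Nat.cast_sum, split (fun χ => ((deg χ ^ 2 : ℕ) : ZMod 13)) (fun χ hχ => by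
      rw [Nat.cast_pow, hz χ hχ]; decide)] at h'
    rw [← h', d1, d2, d3, d4]
    congr 1
    refine Finset.sum_congr rfl fun χ _ => ?_
    push_cast
    ring
  have s2 : (-1 : ZMod 13) + ∑ χ ∈ T \ K, ((deg χ : ℕ) : ZMod 13) * (W χ : ℤ) = 0 := by
    have h' : ((∑ χ : IrrCharacter G, W χ * (deg χ : ℤ) : ℤ) : ZMod 13) = 0 := by rw [hdeg]; simp
    rw [Int.cast_sum, split (fun χ => ((W χ * (deg χ : ℤ) : ℤ) : ZMod 13)) (fun χ hχ => by
      rw [Int.cast_mul, Int.cast_natCast, hz χ hχ, mul_zero])] at h'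
    rw [← h', d1, d2, d3, d4, w1, w2, w3, w4]
    congr 1
    refine Finset.sum_congr rfl fun χ _ => ?_
    push_cast
    ring
  have hw : ∀ χ : IrrCharacter G, ((W χ : ℤ) : ZMod 13) = 0 ∨ ((W χ : ℤ) : ZMod 13) = 1 ∨ ((W χ : ℤ) : ZMod 13) = -1 := by
    intro χ
    rcases wval χ with ⟨-, h⟩ | ⟨-, h⟩ | ⟨-, h⟩ <;> rw [h] <;> simp
  have hne : ∀ χ ∈ T \ K, ((deg χ : ℕ) : ZMod 13) ≠ 0 := by
    intro χ hχ h0
    have h1 := (ZMod.natCast_eq_zero_iff _ _).1 h0
    have h2 := (Finset.mem_sdiff.1 hχ).1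
    rw [hT, Finset.mem_filter] at h2
    exact h2.2 h1
  generalize hYd : T \ K = Y at *
  have hcases : Y.card = 0 ∨ Y.card = 1 ∨ Y.card = 2 := by omega
  rcases hcases with h0 | h0 | h0
  · rw [Finset.card_eq_zero] at h0
    rw [h0] at s1
    revert s1
    simp only [Finset.sum_empty]
    decide
  · obtain ⟨a, rfl⟩ := Finset.card_eq_one.1 h0
    rw [Finset.sum_singleton] at s1 s2
    exact hne a (Finset.mem_singleton_self a) (arith13' _ _ (hw a) s1 s2)
  · obtain ⟨a, b, hab, rfl⟩ := Finset.card_eq_two.1 h0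
    rw [Finset.sum_pair hab, ← add_assoc] at s1 s2
    rcases arith13 _ _ _ _ (hw a) (hw b) s1 s2 with h | h
    · exact hne a (by simp) h
    · exact hne b (by simp) h

/-- Distinct degrees give distinct characters. -/
theorem card_le_of_degrees (L : List ℕ) (hL : L.Nodup) (p : ℕ) (hp : ∀ n ∈ L, ¬ p ∣ n)
    (h : ∀ n ∈ L, ∃ χ : G → ℂ, IsIrrCharacter G χ ∧ χ 1 = (n : ℂ)) :
    L.length ≤ Nat.card {χ : IrrCharacter G // ¬ p ∣ charDegree (χ : G → ℂ)} := by
  classical
  have := finite_irr (G := G)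
  choose! f hf hf1 using h
  have hd : ∀ n ∈ L, charDegree (f n) = n := by
    intro n hn
    have e := Blocks.Basic.irr_one_eq_charDegree (hf n hn)
    rw [hf1 n hn] at e
    exact_mod_cast e.symm
  let g : L.toFinset → {χ : IrrCharacter G // ¬ p ∣ charDegree (χ : G → ℂ)} := fun n =>
    ⟨⟨f n.1, hf n.1 (List.mem_toFinset.1 n.2)⟩, by
      show ¬ p ∣ charDegree (f n.1)
      rw [hd n.1 (List.mem_toFinset.1 n.2)]
      exact hp n.1 (List.mem_toFinset.1 n.2)⟩
  have hg : Function.Injective g := by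
    intro a b hab
    have h1 : charDegree (f a.1) = charDegree (f b.1) :=
      congrArg (fun c : {χ : IrrCharacter G // ¬ p ∣ charDegree (χ : G → ℂ)} => charDegree ((c.1 : IrrCharacter G) : G → ℂ)) hab
    rw [hd a.1 (List.mem_toFinset.1 a.2), hd b.1 (List.mem_toFinset.1 b.2)] at h1
    exact Subtype.ext h1
  have h1 := Nat.card_le_card_of_injective g hg
  rwa [Nat.card_eq_fintype_card, Fintype.card_coe, List.toFinset_card_of_nodup hL] at h1

end Cfsg.Agent.H543.XZ
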